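import Groth.Agent.QC70.Colim
import Groth.Agent.QC70.Coherent
import Groth.Agent.TildePull72.Basic

/-! Inverse images of quasi-coherent modules: sections over affine opens. -/

set_option autoImplicit false
set_option backward.isDefEq.respectTransparency.types false

noncomputable section

universe u

open CategoryTheory Limits AlgebraicGeometry TopologicalSpace Opposite TensorProduct
open Groth.Agent.QC70

namespace Groth.Agent.QCPull72

variable {X Y : Scheme.{u}}

lemma fromSpec_image_top {U : X.Opens} (hU : IsAffineOpen U) : hU.fromSpec ''ᵁ ⊤ = U := by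
  rw [Scheme.Hom.image_top_eq_opensRange, hU.opensRange_fromSpec]

/-- Global sections of `M|fromSpec` are sections over `U`. -/
def specTopEquiv (M : X.Modules) {U : X.Opens} (hU : IsAffineOpen U) :
    Γ(specRes M hU, ⊤) ≃ₗ[Γ(X, U)] Γ(M, U) where
  __ := (M.restrictAppIso hU.fromSpec ⊤ ≪≫
    M.presheaf.mapIso (eqToIso (fromSpec_image_top hU).symm).op).addCommGroupIsoToAddEquiv
  map_smul' r x := by
    change res M (fromSpec_image_top hU).ge ((M.restrictAppIso hU.fromSpec ⊤).hom (r • x)) =
      r • res M (fromSpec_image_top hU).ge ((M.restrictAppIso hU.fromSpec ⊤).hom x)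
    rw [specRes_smul M hU ⊤ (fromSpec_image_top hU).le, res_smul, resO_resO, resO_self]

/-- The same as an isomorphism of modules. -/
def specTopIso (M : X.Modules) {U : X.Opens} (hU : IsAffineOpen U) :
    moduleSpecΓFunctor.obj (specRes M hU) ≅ ModuleCat.of Γ(X, U) Γ(M, U) :=
  LinearEquiv.toModuleIso
    (X₁ := moduleSpecΓFunctor.obj (specRes M hU)) (X₂ := ModuleCat.of Γ(X, U) Γ(M, U))
    (specTopEquiv M hU)

variable (f : Y ⟶ X) (F : X.Modules) [F.IsQuasicoherent]
  {U : X.Opens} (hU : IsAffineOpen U) {V : Y.Opens} (hV : IsAffineOpen V) (e : V ≤ f ⁻¹ᵁ U)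

/-- The inverse image on an affine open is a tilde. -/
def specResPullbackIso :
    specRes ((Scheme.Modules.pullback f).obj F) hV ≅
      tilde ((ModuleCat.extendScalars (f.appLE U V e).hom).obj (ModuleCat.of Γ(X, U) Γ(F, U))) :=
  (Scheme.Modules.restrictFunctorIsoPullback hV.fromSpec).app _ ≪≫
  (Scheme.Modules.pullbackComp hV.fromSpec f).app F ≪≫
  (Scheme.Modules.pullbackCongr (hU.SpecMap_appLE_fromSpec f hV e).symm).app F ≪≫
  ((Scheme.Modules.pullbackComp (Spec.map (f.appLE U V e)) hU.fromSpec).app F).symm ≪≫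
  (Scheme.Modules.pullback (Spec.map (f.appLE U V e))).mapIso
    (((Scheme.Modules.restrictFunctorIsoPullback hU.fromSpec).app F).symm ≪≫
      (tildeIsoSpecRes F hU).symm ≪≫ (tilde.functor _).mapIso (specTopIso F hU)) ≪≫
  (TildePull72.pullbackTildeIso (f.appLE U V e)).app _

/-- Sections of the inverse image over an affine open. -/
def sectionsPullbackIso :
    ModuleCat.of Γ(Y, V) Γ((Scheme.Modules.pullback f).obj F, V) ≅
      (ModuleCat.extendScalars (f.appLE U V e).hom).obj (ModuleCat.of Γ(X, U) Γ(F, U)) :=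
  (specTopIso _ hV).symm ≪≫ moduleSpecΓFunctor.mapIso (specResPullbackIso f F hU hV e) ≪≫
    (tilde.isoTop _).symm

/-- Sections of the inverse image over an affine open, as a base change. -/
def sectionsPullbackEquiv :
    letI := (f.appLE U V e).hom.toAlgebra
    Γ((Scheme.Modules.pullback f).obj F, V) ≃ₗ[Γ(Y, V)] Γ(Y, V) ⊗[Γ(X, U)] Γ(F, U) :=
  (sectionsPullbackIso f F hU hV e).toLinearEquiv

include hU hV e in
theorem isLocAt_pullback : IsLocAt ((Scheme.Modules.pullback f).obj F) V := by
  rw [isLocAt_iff_isIso_fromTildeΓ _ hV, isIso_fromTildeΓ_iff]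
  exact ⟨_, ⟨(specResPullbackIso f F hU hV e).symm⟩⟩

omit [F.IsQuasicoherent] in
theorem exists_affine_le (y : Y) :
    ∃ (U : X.Opens) (V : Y.Opens), IsAffineOpen U ∧ IsAffineOpen V ∧ y ∈ V ∧ V ≤ f ⁻¹ᵁ U := by
  obtain ⟨_, ⟨U, hU, rfl⟩, hxU, -⟩ :=
    X.isBasis_affineOpens.exists_subset_of_mem_open (Set.mem_univ (f y)) isOpen_univ
  obtain ⟨_, ⟨V, hV, rfl⟩, hyV, hVU⟩ :=
    Y.isBasis_affineOpens.exists_subset_of_mem_open (show y ∈ f ⁻¹ᵁ U from hxU) (f ⁻¹ᵁ U).2
  exact ⟨U, V, hU, hV, hyV, hVU⟩

/-- Inverse images of quasi-coherent modules are quasi-coherent. -/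
theorem isQuasicoherent_pullback : ((Scheme.Modules.pullback f).obj F).IsQuasicoherent := by
  choose U V hU hV hy e using exists_affine_le f
  exact isQuasicoherent_of_isLocAt _ V
    (IsOpenCover.mk (top_le_iff.mp fun y _ => Opens.mem_iSup.mpr ⟨y, hy y⟩)) hV
    fun y => isLocAt_pullback f F (hU y) (hV y) (e y)

/-- Inverse images of finite type quasi-coherent modules are of finite type. -/
theorem isFiniteType_pullback [F.IsFiniteType] :
    ((Scheme.Modules.pullback f).obj F).IsFiniteType := by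
  have := isQuasicoherent_pullback f F
  choose U V hU hV hy e using exists_affine_le f
  refine isFiniteType_of_finite_sections _ V
    (IsOpenCover.mk (top_le_iff.mp fun y _ => Opens.mem_iSup.mpr ⟨y, hy y⟩)) hV fun y => ?_
  let _ := (f.appLE (U y) (V y) (e y)).hom.toAlgebra
  have := finite_sections_of_isFiniteType F (hU y)
  exact Module.Finite.equiv (sectionsPullbackEquiv f F (hU y) (hV y) (e y)).symm

end Groth.Agent.QCPull72
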