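import Groth.Agent.QCPull72.Sections
import Groth.Agent.QCSupp72.Basic
import Mathlib.RingTheory.Flat.FaithfullyFlat.Basic
import Mathlib.RingTheory.LocalRing.Module
import Mathlib.RingTheory.LocalRing.ResidueField.Fiber

/-! Supports of inverse images. -/

set_option autoImplicit false
set_option backward.isDefEq.respectTransparency.types false

noncomputable section

universe u

open CategoryTheory Limits AlgebraicGeometry TopologicalSpace Opposite TensorProduct
open Groth.Agent.QC70

namespace Groth.Agent.QCPull72

theorem mem_support_baseChange_iff {R S M : Type u} [CommRing R] [CommRing S] [Algebra R S]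
    [AddCommGroup M] [Module R M] [Module.Finite R M] (P : PrimeSpectrum S) :
    P ∈ Module.support S (S ⊗[R] M) ↔ P.comap (algebraMap R S) ∈ Module.support R M := by
  let p := P.asIdeal.under R
  let := Localization.AtPrime.algebraOfLiesOver p P.asIdeal
  rw [Module.mem_support_iff_nontrivial_residueField_tensorProduct,
    Module.mem_support_iff_nontrivial_residueField_tensorProduct]
  change Nontrivial (P.asIdeal.ResidueField ⊗[S] (S ⊗[R] M)) ↔ Nontrivial (p.ResidueField ⊗[R] M)
  rw [(AlgebraTensorModule.cancelBaseChange R S S P.asIdeal.ResidueField M).toEquiv.nontrivial_congr,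
    ← (AlgebraTensorModule.cancelBaseChange R p.ResidueField p.ResidueField
      P.asIdeal.ResidueField M).toEquiv.nontrivial_congr]
  exact Module.FaithfullyFlat.nontrivial_tensorProduct_iff_right _ _

theorem support_pullback {X Y : Scheme.{u}} (f : Y ⟶ X) (F : X.Modules) [F.IsQuasicoherent]
    [F.IsFiniteType] :
    CohB1.support ((Scheme.Modules.pullback f).obj F) = f ⁻¹' CohB1.support F := by
  ext y
  obtain ⟨U, V, hU, hV, hy, e⟩ := exists_affine_le f y
  have := isQuasicoherent_pullback f F
  let _ := (f.appLE U V e).hom.toAlgebra
  have := finite_sections_of_isFiniteType F hU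
  rw [Set.mem_preimage, ← QCSupp72.mem_support_iff _ hV hy,
    ← QCSupp72.mem_support_iff F hU (e hy), (sectionsPullbackEquiv f F hU hV e).support_eq,
    mem_support_baseChange_iff, ← IsAffineOpen.comap_primeIdealOf_appLE U hU V hV e hy]
  rfl

end Groth.Agent.QCPull72
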