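import Groth.Agent.QCPull72.Closed
import Groth.Agent.QCPull72.Support
import Groth.Agent.MP99.Basic
import Groth.Agent.S6283
import Mathlib.AlgebraicGeometry.Morphisms.Flat

/-! The annihilator ideal sheaf of a finite type quasi-coherent module. -/

set_option autoImplicit false
set_option backward.isDefEq.respectTransparency.types false

noncomputable section

universe u

open CategoryTheory Limits AlgebraicGeometry TopologicalSpace Opposite
open Groth.Agent.QC70

namespace Groth.Agent.QCPull72

variable {X : Scheme.{u}} (F : X.Modules) [F.IsQuasicoherent] [F.IsFiniteType]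

theorem map_annihilator_basicOpen {U : X.Opens} (hU : IsAffineOpen U) (f : Γ(X, U)) :
    (Module.annihilator Γ(X, U) Γ(F, U)).map (X.presheaf.map (homOfLE (X.basicOpen_le f)).op).hom =
      Module.annihilator Γ(X, X.basicOpen f) Γ(F, X.basicOpen f) := by
  have hF := isLocAt_of_isQuasicoherent F hU
  have hu : IsUnit (resO X (X.basicOpen_le f) f) := RingedSpace.isUnit_res_basicOpen _ f
  refine le_antisymm ?_ ?_
  · rw [Ideal.map_le_iff_le_comap]
    intro a ha
    rw [Ideal.mem_comap, Module.mem_annihilator]
    intro s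
    obtain ⟨n, t, ht⟩ := hF.exists_of f s
    refine (hu.pow n).smul_eq_zero.mp ?_
    show resO X (X.basicOpen_le f) f ^ n • resO X (X.basicOpen_le f) a • s = 0
    rw [smul_comm, ← ht, ← res_smul, Module.mem_annihilator.mp ha t, res_zero]
  · intro b hb
    obtain ⟨n, c, hc'⟩ : ∃ (n : ℕ) (c : Γ(X, U)),
        resO X (X.basicOpen_le f) c = resO X (X.basicOpen_le f) f ^ n * b := by
      obtain ⟨n, c, hc⟩ := (isLocAt_unit hU).exists_of f (toUnit b)
      exact ⟨n, c, hc⟩
    have := finite_sections_of_isFiniteType F hU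
    obtain ⟨m, s, hs⟩ := Module.Finite.exists_fin (R := Γ(X, U)) (M := Γ(F, U))
    have hk : ∀ i, ∃ k, f ^ k • c • s i = 0 := fun i =>
      hF.eq_zero_of f _ (by
        rw [res_smul, hc', mul_smul, Module.mem_annihilator.mp hb, smul_zero])
    choose k hk using hk
    let K := Finset.univ.sup k
    have hann : f ^ K * c ∈ Module.annihilator Γ(X, U) Γ(F, U) := by
      rw [Module.mem_annihilator]
      intro x
      have hx : x ∈ Submodule.span Γ(X, U) (Set.range s) := hs ▸ trivial
      induction hx using Submodule.span_induction with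
      | mem y hy =>
        obtain ⟨i, rfl⟩ := hy
        rw [mul_smul, show K = K - k i + k i from
          (Nat.sub_add_cancel (Finset.le_sup (f := k) (Finset.mem_univ i))).symm,
          pow_smul_add, hk, smul_zero]
      | zero => rw [smul_zero]
      | add y z _ _ hy hz => rw [smul_add, hy, hz, add_zero]
      | smul r y _ hy => rw [smul_comm, hy, smul_zero]
    let φ := (X.presheaf.map (homOfLE (X.basicOpen_le f)).op).hom
    have hmem : φ (f ^ K * c) ∈ (Module.annihilator Γ(X, U) Γ(F, U)).map φ :=
      Ideal.mem_map_of_mem φ hann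
    have e : φ (f ^ K * c) = resO X (X.basicOpen_le f) f ^ (K + n) * b := by
      show resO X (X.basicOpen_le f) (f ^ K * c) = _
      simp only [resO, map_mul, map_pow] at hc' ⊢
      rw [hc', pow_add, mul_assoc]
    rw [e] at hmem
    exact (Ideal.unit_mul_mem_iff_mem _ (hu.pow _)).mp hmem

/-- The annihilator ideal sheaf. -/
def annSheaf : X.IdealSheafData where
  ideal U := Module.annihilator Γ(X, U.1) Γ(F, U.1)
  map_ideal_basicOpen U f := map_annihilator_basicOpen F U.2 f

theorem support_annSheaf : ((annSheaf F).support : Set X) = CohB1.support F := by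
  ext x
  obtain ⟨_, ⟨V, hV, rfl⟩, hx, -⟩ :=
    X.isBasis_affineOpens.exists_subset_of_mem_open (Set.mem_univ x) isOpen_univ
  have := finite_sections_of_isFiniteType F hV
  rw [← QCSupp72.mem_support_iff F hV hx, Module.mem_support_iff_of_finite]
  refine ((annSheaf F).mem_support_iff_of_mem (U := ⟨V, hV⟩) hx).trans ?_
  rw [Scheme.mem_zeroLocus_iff]
  refine ⟨fun h a ha => ?_, fun h a ha hxa => ?_⟩
  · by_contra hne
    exact h a ha ((QCSupp72.mem_basicOpen_iff_notMem hV hx a).mpr hne)
  · exact (QCSupp72.mem_basicOpen_iff_notMem hV hx a).mp hxa (h ha)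

theorem isIso_pullUnit_annSheaf : IsIso (pullUnit (annSheaf F).subschemeι F) := by
  rw [isIso_pullUnit_iff]
  intro U a ha s
  rw [Scheme.IdealSheafData.ker_subschemeι] at ha
  exact Module.mem_annihilator.mp ha s

theorem le_annSheaf (J : X.IdealSheafData) (h : IsIso (pullUnit J.subschemeι F)) :
    J ≤ annSheaf F := fun U a ha => by
  refine Module.mem_annihilator.mpr ((isIso_pullUnit_iff J.subschemeι F).mp h U a ?_)
  rwa [Scheme.IdealSheafData.ker_subschemeι]

theorem exists_schemeTheoreticSupport :
    ∃ J : X.IdealSheafData, (∀ U : X.affineOpens, J.ideal U = Module.annihilator Γ(X, U.1) Γ(F, U.1)) ∧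
      IsIso (pullUnit J.subschemeι F) ∧
      (∀ J' : X.IdealSheafData, IsIso (pullUnit J'.subschemeι F) → J' ≤ J) ∧
      (J.support : Set X) = CohB1.support F :=
  ⟨annSheaf F, fun _ => rfl, isIso_pullUnit_annSheaf F, le_annSheaf F, support_annSheaf F⟩

theorem comap_annSheaf {Y : Scheme.{u}} (f : Y ⟶ X) [Flat f] :
    have := isQuasicoherent_pullback f F
    have := isFiniteType_pullback f F
    (annSheaf F).comap f = annSheaf ((Scheme.Modules.pullback f).obj F) := by
  intro _ _
  choose U V hU hV hy e using exists_affine_le f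
  refine Scheme.IdealSheafData.ext_of_iSup_eq_top (fun y => (⟨V y, hV y⟩ : Y.affineOpens))
    (top_le_iff.mp fun y _ => Opens.mem_iSup.mpr ⟨y, hy y⟩) fun y => ?_
  rw [MP99.ideal_comap (annSheaf F) f ⟨U y, hU y⟩ ⟨V y, hV y⟩ (e y)]
  let _ := (f.appLE (U y) (V y) (e y)).hom.toAlgebra
  have : Module.Flat Γ(X, U y) Γ(Y, V y) := f.flat_appLE (hU y) (hV y) (e y)
  have := finite_sections_of_isFiniteType F (hU y)
  refine ((S6283.result (S := Γ(Y, V y)) Γ(F, U y)).2 this).trans ?_
  exact ((sectionsPullbackEquiv f F (hU y) (hV y) (e y)).annihilator_eq).symm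

end Groth.Agent.QCPull72
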