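import Groth.Agent.QCPull72.Unit
import Groth.Agent.QC70.Ideal

/-! The unit `F ⟶ i_* i^* F` of a closed immersion. -/

set_option autoImplicit false
set_option backward.isDefEq.respectTransparency.types false

noncomputable section

universe u

open CategoryTheory Limits AlgebraicGeometry TopologicalSpace Opposite
open Groth.Agent.QC70

namespace Groth.Agent.QCPull72

variable {X Z : Scheme.{u}} (i : Z ⟶ X) [IsClosedImmersion i] (F : X.Modules) [F.IsQuasicoherent]

theorem pullUnit_app_surjective {U : X.Opens} (hU : IsAffineOpen U) :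
    Function.Surjective ((pullUnit i F).app U) := by
  intro z
  let C := (Scheme.Modules.pullback i).obj F
  have h := span_unitSec_eq_top i F hU (hU.preimage i) (le_refl (i ⁻¹ᵁ U))
  have hz : (show Γ(C, i ⁻¹ᵁ U) from z) ∈
      Submodule.span Γ(Z, i ⁻¹ᵁ U) (Set.range (unitSec i F (le_refl (i ⁻¹ᵁ U)))) := h ▸ trivial
  refine Submodule.span_induction
    (p := fun (y : Γ(C, i ⁻¹ᵁ U)) _ => ∃ x, (pullUnit i F).app U x = y)
    ?_ ⟨0, map_zero _⟩ ?_ ?_ hz
  · rintro _ ⟨x, rfl⟩
    exact ⟨x, (res_self _).symm⟩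
  · rintro a b - - ⟨x, rfl⟩ ⟨y, rfl⟩
    exact ⟨x + y, map_add _ _ _⟩
  · rintro c a - ⟨x, rfl⟩
    obtain ⟨b, rfl⟩ := i.app_surjective U hU c
    exact ⟨b • x, (Scheme.Modules.Hom.app_smul _ _ _).trans (QCqs72.pushforward_smul C i b _)⟩

theorem epi_pullUnit : Epi (pullUnit i F) := by
  refine epi_of_locally_surjective _ fun W y p hp => ?_
  obtain ⟨_, ⟨U, hU, rfl⟩, hpU, hUW⟩ := X.isBasis_affineOpens.exists_subset_of_mem_open hp W.2
  obtain ⟨x, hx⟩ := pullUnit_app_surjective i F hU
    (res ((Scheme.Modules.pushforward i).obj ((Scheme.Modules.pullback i).obj F)) hUW y)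
  exact ⟨U, hUW, x, hpU, hx⟩

theorem pullUnit_app_eq_zero {U : X.affineOpens} {x : Γ(F, U.1)}
    (hx : (pullUnit i F).app U.1 x = 0) :
    x ∈ i.ker.ideal U • (⊤ : Submodule Γ(X, U.1) Γ(F, U.1)) := by
  refine toQuotPush_app_eq_zero i.ker U F ?_
  let m := i.ker.subschemeCover.f U ≫ inv i.toImage
  have hm : quotMor i.ker U = m ≫ i := by
    have h0 : inv i.toImage ≫ i = i.ker.subschemeι := by
      rw [IsIso.inv_comp_eq]
      exact i.toImage_imageι.symm
    rw [show m ≫ i = i.ker.subschemeCover.f U ≫ inv i.toImage ≫ i from Category.assoc _ _ _, h0,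
      Scheme.IdealSheafData.subschemeCover_map_subschemeι,
      Scheme.IdealSheafData.glueDataObjι_ι]
  let Q := (Scheme.Modules.pushforward m).obj (tilde (quotMod i.ker U F))
  let e : quotPush i.ker U F ≅ (Scheme.Modules.pushforward i).obj Q :=
    (Scheme.Modules.pushforwardCongr hm).app _ ≪≫
      ((Scheme.Modules.pushforwardComp m i).app _).symm
  let ψ := toQuotPush i.ker U F ≫ e.hom
  have hψ : pullUnit i F ≫ (Scheme.Modules.pushforward i).map
      (((Scheme.Modules.pullbackPushforwardAdjunction i).homEquiv _ _).symm ψ) = ψ := by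
    rw [← Adjunction.homEquiv_unit, Equiv.apply_symm_apply]
  have h1 : toQuotPush i.ker U F = pullUnit i F ≫ (Scheme.Modules.pushforward i).map
      (((Scheme.Modules.pullbackPushforwardAdjunction i).homEquiv _ _).symm ψ) ≫ e.inv := by
    rw [reassoc_of% hψ, Category.assoc, Iso.hom_inv_id, Category.comp_id]
  rw [h1, Scheme.Modules.Hom.comp_app, ConcreteCategory.comp_apply, hx, map_zero]

theorem isIso_pullUnit_iff :
    IsIso (pullUnit i F) ↔
      ∀ (U : X.affineOpens) (a : Γ(X, U.1)), a ∈ i.ker.ideal U → ∀ s : Γ(F, U.1), a • s = 0 := by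
  refine ⟨fun h U a ha s => ?_, fun h => ?_⟩
  · refine app_injective_of_mono (pullUnit i F) U.1 ?_
    rw [map_zero, Scheme.Modules.Hom.app_smul]
    refine (QCqs72.pushforward_smul _ i a _).trans ?_
    rw [show i.app U.1 a = 0 from i.ideal_ker_le U ha, zero_smul]
    rfl
  · have := epi_pullUnit i F
    have : Mono (pullUnit i F) := by
      refine mono_of_app_injective _ fun W => ?_
      rw [injective_iff_map_eq_zero]
      refine fun x hx => section_ext F x 0 fun p hp => ?_
      obtain ⟨_, ⟨U, hU, rfl⟩, hpU, hUW⟩ := X.isBasis_affineOpens.exists_subset_of_mem_open hp W.2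
      refine ⟨U, hUW, hpU, ?_⟩
      rw [res_zero]
      have h0 : (pullUnit i F).app U (res F hUW x) = 0 := by
        rw [app_res, hx, res_zero]
      have h1 := pullUnit_app_eq_zero i F (U := ⟨U, hU⟩) h0
      refine Submodule.smul_induction_on h1 (fun a ha y _ => h _ a ha y) ?_
      intro y z hy hz
      rw [hy, hz, add_zero]
    exact isIso_of_mono_of_epi _

end Groth.Agent.QCPull72
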