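import Groth.Agent.QCPull72.Sections
import Groth.Agent.QCqs72.Basic

/-! The unit `F ⟶ f_* f^* F` generates on affine opens. -/

set_option autoImplicit false
set_option backward.isDefEq.respectTransparency.types false

noncomputable section

universe u

open CategoryTheory Limits AlgebraicGeometry TopologicalSpace Opposite
open Groth.Agent.QC70

namespace Groth.Agent.QCPull72

variable {X Y : Scheme.{u}}

section Extend

variable (C : Y.Modules) [C.IsQuasicoherent] {V : Y.Opens} (hV : IsAffineOpen V)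
  {T : ModuleCat.{u} Γ(Y, V)} (k : ModuleCat.of Γ(Y, V) Γ(C, V) ⟶ T)

/-- The morphism of modules on `Spec Γ(Y, V)` induced by a linear map on sections. -/
def specHom : specRes C hV ⟶ tilde T :=
  (tildeIsoSpecRes C hV).inv ≫ tilde.map ((specTopIso C hV).hom ≫ k)

theorem moduleSpecΓ_map_specHom (w : Γ(specRes C hV, ⊤)) :
    (moduleSpecΓFunctor.map (specHom C hV k)) w =
      tilde.toOpen T ⊤ (k ((specTopIso C hV).hom w)) := by
  let A := moduleSpecΓFunctor.obj (specRes C hV)
  let ti := tildeIsoSpecRes C hV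
  have h1 : (moduleSpecΓFunctor.map ti.inv) w = tilde.toOpen A ⊤ w := by
    have h : (moduleSpecΓFunctor.map ti.hom) (tilde.toOpen A ⊤ w) = w :=
      congr($((tilde.adjunction (R := Γ(Y, V))).right_triangle_components (specRes C hV)) w)
    have h' : (moduleSpecΓFunctor.map ti.hom) ((moduleSpecΓFunctor.map ti.inv) w) = w :=
      (congr($((moduleSpecΓFunctor.mapIso ti).inv_hom_id) w) :)
    exact (ConcreteCategory.bijective_of_isIso (moduleSpecΓFunctor.map ti.hom)).1 (h'.trans h.symm)
  have h2 : (moduleSpecΓFunctor.map (tilde.map ((specTopIso C hV).hom ≫ k))) (tilde.toOpen A ⊤ w) =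
      tilde.toOpen T ⊤ (((specTopIso C hV).hom ≫ k) w) :=
    congr($(tilde.toOpen_map_app ((specTopIso C hV).hom ≫ k) ⊤) w)
  rw [specHom, Functor.map_comp]
  exact (congrArg (moduleSpecΓFunctor.map (tilde.map ((specTopIso C hV).hom ≫ k))) h1).trans h2

/-- The morphism `C ⟶ j_* T~` induced by a linear map on sections. -/
def extendHom : C ⟶ (Scheme.Modules.pushforward hV.fromSpec).obj (tilde T) :=
  (Scheme.Modules.restrictAdjunction hV.fromSpec).homEquiv C (tilde T) (specHom C hV k)

theorem res_extendHom_app (z : Γ(C, V)) :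
    res (tilde T) (le_of_eq hV.fromSpec_preimage_self.symm) ((extendHom C hV k).app V z) =
      tilde.toOpen T ⊤ (k z) := by
  let w : Γ(specRes C hV, ⊤) :=
    (C.restrictAppIso hV.fromSpec ⊤).inv (res C (fromSpec_image_top hV).le z)
  have hw : (specTopIso C hV).hom w = z := by
    show res C (fromSpec_image_top hV).ge (res C (fromSpec_image_top hV).le z) = z
    rw [res_res, res_self]
  have h1 : (extendHom C hV k).app V z =
      (specHom C hV k).app (hV.fromSpec ⁻¹ᵁ V) (res C (hV.fromSpec.image_preimage_le V) z) := by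
    rw [extendHom, Adjunction.homEquiv_unit]
    rfl
  rw [h1]
  refine (app_res (specHom C hV k) _ _).symm.trans ?_
  have h2 : (moduleSpecΓFunctor.map (specHom C hV k)) w = tilde.toOpen T ⊤ (k z) := by
    exact (moduleSpecΓ_map_specHom C hV k w).trans (congrArg (fun t => tilde.toOpen T ⊤ (k t)) hw)
  refine Eq.trans (congrArg ((specHom C hV k).app ⊤) ?_) h2
  show res C _ (res C _ z) = res C _ z
  rw [res_res]

end Extend

variable (f : Y ⟶ X) (F : X.Modules) [F.IsQuasicoherent]
  {U : X.Opens} (hU : IsAffineOpen U) {V : Y.Opens} (hV : IsAffineOpen V) (e : V ≤ f ⁻¹ᵁ U)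

/-- The unit of `f^* ⊣ f_*`. -/
abbrev pullUnit (F : X.Modules) :
    F ⟶ (Scheme.Modules.pushforward f).obj ((Scheme.Modules.pullback f).obj F) :=
  (Scheme.Modules.pullbackPushforwardAdjunction f).unit.app F

/-- A section of `F` over `U` as a section of `f^*F` over `V`. -/
def unitSec (x : Γ(F, U)) : Γ((Scheme.Modules.pullback f).obj F, V) :=
  res ((Scheme.Modules.pullback f).obj F) e ((pullUnit f F).app U x)

include hU hV in
/-- Sections of `F` generate those of `f^*F` over affine opens. -/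
theorem span_unitSec_eq_top :
    Submodule.span Γ(Y, V) (Set.range (unitSec f F e)) = ⊤ := by
  have := isQuasicoherent_pullback f F
  let C := (Scheme.Modules.pullback f).obj F
  let D := Submodule.span Γ(Y, V) (Set.range (unitSec f F e))
  let T : ModuleCat.{u} Γ(Y, V) := ModuleCat.of Γ(Y, V) (Γ(C, V) ⧸ D)
  let k : ModuleCat.of Γ(Y, V) Γ(C, V) ⟶ T := ModuleCat.ofHom D.mkQ
  let j := hV.fromSpec
  let g : C ⟶ (Scheme.Modules.pushforward j).obj (tilde T) := extendHom C hV k
  let v : F ⟶ (Scheme.Modules.pushforward f).obj ((Scheme.Modules.pushforward j).obj (tilde T)) :=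
    pullUnit f F ≫ (Scheme.Modules.pushforward f).map g
  have hjV : (⊤ : (Spec Γ(Y, V)).Opens) ≤ j ⁻¹ᵁ V := le_of_eq hV.fromSpec_preimage_self.symm
  have hjU : (⊤ : (Spec Γ(Y, V)).Opens) ≤ j ⁻¹ᵁ (f ⁻¹ᵁ U) := hjV.trans (j.preimage_mono e)
  have hvU : ∀ x, v.app U x = 0 := by
    intro x
    have h0 : tilde.toOpen T ⊤ (k (unitSec f F e x)) = 0 := by
      rw [show k (unitSec f F e x) = 0 from
        (Submodule.Quotient.mk_eq_zero _).mpr (Submodule.subset_span ⟨x, rfl⟩)]
      exact map_zero _
    have h1 := (res_extendHom_app C hV k (unitSec f F e x)).trans h0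
    let y : Γ(C, f ⁻¹ᵁ U) := (pullUnit f F).app U x
    have h1' : res (tilde T) hjV (res (tilde T) (j.preimage_mono e) (g.app (f ⁻¹ᵁ U) y)) = 0 :=
      (congrArg (res (tilde T) hjV) (app_res g e y)).symm.trans h1
    replace h1 : res (tilde T) hjU (g.app (f ⁻¹ᵁ U) y) = 0 := (res_res _ _ _).symm.trans h1'
    have h2 := congrArg (res (tilde T) (le_top : j ⁻¹ᵁ (f ⁻¹ᵁ U) ≤ ⊤)) h1
    rw [res_res, res_self, res_zero] at h2
    exact h2
  have hv : v = 0 := by
    refine Scheme.Modules.hom_ext _ _ fun W => ?_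
    ext s
    refine section_ext (tilde T) (U := j ⁻¹ᵁ (f ⁻¹ᵁ W)) _ 0 fun q hq => ?_
    have hqU : f (j q) ∈ U := hjU (Set.mem_univ q : q ∈ (⊤ : (Spec Γ(Y, V)).Opens))
    obtain ⟨r, hrW, hqr⟩ := hU.exists_basicOpen_le ⟨f (j q), hq⟩ hqU
    refine ⟨j ⁻¹ᵁ (f ⁻¹ᵁ X.basicOpen r), j.preimage_mono (f.preimage_mono hrW), hqr, ?_⟩
    have h3 : v.app (X.basicOpen r) (res F hrW s) = 0 := by
      obtain ⟨n, t, ht⟩ := (isLocAt_of_isQuasicoherent F hU).exists_of r (res F hrW s)
      have hu : IsUnit (resO X (X.basicOpen_le r) r) := RingedSpace.isUnit_res_basicOpen _ r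
      refine (hu.pow n).smul_eq_zero.mp ?_
      rw [← Scheme.Modules.Hom.app_smul, ← ht, app_res, hvU, res_zero]
    rw [res_zero, ← QCqs72.pushforward_res (M := tilde T) j (f.preimage_mono hrW) (v.app W s)]
    rw [app_res] at h3
    exact h3
  have hg : g = 0 := by
    have h : (Scheme.Modules.pullbackPushforwardAdjunction f).homEquiv _ _ g =
        (Scheme.Modules.pullbackPushforwardAdjunction f).homEquiv _ _ 0 := by
      rw [Adjunction.homEquiv_unit, Adjunction.homEquiv_unit, Functor.map_zero, comp_zero]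
      exact hv
    exact Equiv.injective _ h
  refine top_le_iff.mp fun z _ => ?_
  have hz : tilde.toOpen T ⊤ (k z) = 0 := by
    rw [← res_extendHom_app C hV k z, show extendHom C hV k = 0 from hg]
    exact res_zero _
  exact (Submodule.Quotient.mk_eq_zero D).mp
    ((ConcreteCategory.bijective_of_isIso (tilde.toOpen T ⊤)).1 (hz.trans (map_zero _).symm))

end Groth.Agent.QCPull72
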